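import Cfsg.Agent.Lib.Lie.TwF4
import Mathlib.GroupTheory.SpecificGroups.Alternating
import Mathlib.GroupTheory.Sylow

/-!
# The prime seven in the large Ree groups

A Sylow 7-subgroup lies in the split torus, whose fusion is controlled by a dihedral group of
order sixteen; in `A₇` an element of order 7 is conjugate to its square.
-/

set_option autoImplicit false
set_option maxRecDepth 20000

namespace Cfsg.Agent.TwistedF4Alt

open Cfsg.Agent.Chev
open Cfsg.Agent.Chev.Tab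

/-- the tables -/
abbrev T := F4Data.tab

variable {F : Type*} [Field F] [Fintype F] [CharP F 2] {m : ℕ}

/-- the split torus -/
noncomputable abbrev t1 (F : Type*) [Field F] (e : ℕ) : Subgroup (GL T.D.Idx F) :=
  T.D.diagonalSubgroup F ⊓ TwF4.tw F e

/-- the monomial elements -/
noncomputable abbrev n1 (F : Type*) [Field F] (e : ℕ) : Subgroup (GL T.D.Idx F) :=
  T.D.monomialSubgroup F ⊓ TwF4.tw F e

theorem t1_comm {e : ℕ} {s t : GL T.D.Idx F} (hs : s ∈ t1 F e) (ht : t ∈ t1 F e) :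
    s * t = t * s := by
  have h1 := (Subgroup.mem_inf.1 hs).1
  have h2 := (Subgroup.mem_inf.1 ht).1
  rw [diagonalSubgroup_eq TwF4.g0] at h1 h2
  obtain ⟨c, rfl⟩ := h1
  obtain ⟨d, rfl⟩ := h2
  rw [← map_mul, mul_comm, map_mul]

theorem index_t1 (hK : Fintype.card F = 2 ^ (2 * m + 1)) :
    ¬ 7 ∣ ((t1 F (2 ^ m)).subgroupOf (TwF4.tw F (2 ^ m))).index := by
  set H := (t1 F (2 ^ m)).subgroupOf (TwF4.tw F (2 ^ m)) with hH
  have h1 : Nat.card H = (2 ^ (2 * m + 1) - 1) ^ 2 :=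
    (Nat.card_congr (Subgroup.subgroupOfEquivOfLe inf_le_right).toEquiv).trans (TwF4.card_torus hK)
  have h2 := H.index_mul_card
  rw [h1, TwF4.card_twisted hK] at h2
  have h7 : ((2 ^ (2 * m + 1) : ℕ) : ZMod 7) ^ 3 = 1 := by
    rw [← Nat.cast_pow, ← pow_mul, mul_comm _ 3, pow_mul, Nat.cast_pow,
      show ((2 ^ 3 : ℕ) : ZMod 7) = 1 from by decide, one_pow]
  have hq1 : 2 ≤ 2 ^ (2 * m + 1) := Nat.le_self_pow (by omega) 2
  generalize 2 ^ (2 * m + 1) = q at h2 h7 hq1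
  have key : H.index = q ^ 12 * (q + 1) * (q ^ 2 + 1) * (q ^ 3 + 1) * (q ^ 6 + 1) := by
    have e4 : q ^ 4 - 1 = (q - 1) * ((q + 1) * (q ^ 2 + 1)) := by
      zify [show 1 ≤ q by omega, Nat.one_le_pow 4 q (by omega)]; ring
    rw [e4] at h2
    refine Nat.eq_of_mul_eq_mul_right (m := (q - 1) ^ 2) (Nat.pow_pos (by omega)) ?_
    rw [h2]; ring
  rw [key, ← ZMod.natCast_eq_zero_iff]
  push_cast
  revert h7
  generalize (q : ZMod 7) = z
  revert z
  decide

/-- fusion in the torus is induced by monomial elements of the twisted group -/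
theorem torus_fusion (hK : Fintype.card F = 2 ^ (2 * m + 1)) {x : GL T.D.Idx F}
    (hx : x ∈ TwF4.tw F (2 ^ m)) :
    ∃ n ∈ n1 F (2 ^ m), ∀ t ∈ t1 F (2 ^ m), x * t * x⁻¹ ∈ t1 F (2 ^ m) →
      n * t * n⁻¹ = x * t * x⁻¹ := by
  have hg : T.Good := TwF4.gA.toGood
  obtain ⟨v, hv, -, L, hL, -, c, hn1, u, hu, -, rfl⟩ :=
    (TwF4.X (F := F) hK).g1_decomp hx
  set n := tor T F c * nWd hg F L with hn
  have hmono : n ∈ T.D.monomialSubgroup F := (mem_monomial_iff hg).2 ⟨L, hL, c, rfl⟩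
  refine ⟨n, Subgroup.mem_inf.2 ⟨hmono, hn1⟩, fun t ht htc => ?_⟩
  obtain ⟨ht1, -⟩ := Subgroup.mem_inf.1 ht
  obtain ⟨htc1, -⟩ := Subgroup.mem_inf.1 htc
  rw [diagonalSubgroup_eq hg] at ht1 htc1
  obtain ⟨a, rfl⟩ := ht1
  obtain ⟨a', ha'⟩ := htc1
  obtain ⟨e, he⟩ : ∃ e, n * tor T F a * n⁻¹ = tor T F e := by
    obtain ⟨e, he⟩ := wSub_conj_torus hg (nWd_mem_wSub hg hL) a
    exact ⟨e, by rw [hn, show ∀ p q y : GL T.D.Idx F, p * q * y * (p * q)⁻¹ =
      p * (q * y * q⁻¹) * p⁻¹ from fun p q y => by group, he, ← map_mul, ← map_inv, ← map_mul,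
      mul_comm c e, mul_inv_cancel_right]⟩
  have hu' : (tor T F a)⁻¹ * u * tor T F a ∈ uMinus hg F L := by
    have := (Subgroup.mem_normalizer_iff.1 (inv_mem (tor_normalizes (F := F) hg
      (S := {r | T.N ≤ r ∧ r < T.n ∧ T.rw' L r < T.N}) (fun r hr => hr.2.1) a)) u).1 hu
    rwa [inv_inv] at this
  have hvB : v ∈ T.D.borelSubgroup F := genS_pos_le_borel hg (fun r hr => hr) hv
  have heq : tor T F a' * v * n * u =
      v * tor T F e * n * ((tor T F a)⁻¹ * u * tor T F a) := by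
    rw [← he, ha']; group
  obtain ⟨-, hsame⟩ := bruhat_unique TwF4.gA (mul_mem (torus_le_borel hg a') hvB)
    (mul_mem hvB (torus_le_borel hg e)) hmono hmono hL hn hu hu' heq
  obtain ⟨hb', -⟩ := hsame rfl rfl
  have key : v⁻¹ * (tor T F a' * v * (tor T F a')⁻¹) = tor T F e * (tor T F a')⁻¹ := by
    calc v⁻¹ * (tor T F a' * v * (tor T F a')⁻¹)
        = v⁻¹ * (tor T F a' * v) * (tor T F a')⁻¹ := by group
      _ = _ := by rw [hb']; group
  have h0 := pos_inf_torus hg (mul_mem (inv_mem hv)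
    ((Subgroup.mem_normalizer_iff.1 (tor_normalizes hg (fun r hr => hr.2) a') v).1 hv))
    (by rw [key, diagonalSubgroup_eq hg]; exact ⟨e * a'⁻¹, by rw [map_mul, map_inv]⟩)
  rw [key, mul_inv_eq_one] at h0
  rw [he, h0, ha']

/-- the sixteenth power of a map normalising a 7-subgroup centralises it -/
theorem pow_sixteen_central (hK : Fintype.card F = 2 ^ (2 * m + 1))
    {Q : Subgroup ↥(TwF4.tw F (2 ^ m))} (hQ : IsPGroup 7 Q) {h : ↥(TwF4.tw F (2 ^ m))}
    (hh : ∀ t ∈ Q, h * t * h⁻¹ ∈ Q) : ∀ t ∈ Q, h ^ 16 * t * (h ^ 16)⁻¹ = t := by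
  haveI : Fact (Nat.Prime 7) := ⟨by norm_num⟩
  set H := (t1 F (2 ^ m)).subgroupOf (TwF4.tw F (2 ^ m)) with hH
  obtain ⟨P⟩ : Nonempty (Sylow 7 H) := inferInstance
  let P' : Sylow 7 (TwF4.tw F (2 ^ m)) := (P.2.map H.subtype).toSylow (by
    rw [Subgroup.index_map_subtype]
    exact Nat.Prime.not_dvd_mul Fact.out P.not_dvd_index (index_t1 hK))
  have hP' : ∀ t ∈ (P' : Subgroup (TwF4.tw F (2 ^ m))), t ∈ H := by
    intro t ht
    obtain ⟨y, -, rfl⟩ := (IsPGroup.mem_toSylow _ _).1 ht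
    exact y.2
  obtain ⟨Q', hQ'⟩ := hQ.exists_le_sylow
  obtain ⟨z, hz⟩ := MulAction.exists_smul_eq (TwF4.tw F (2 ^ m)) Q' P'
  have hzQ : ∀ t ∈ Q, ((z * t * z⁻¹ : (TwF4.tw F (2 ^ m))) : GL T.D.Idx F) ∈ t1 F (2 ^ m) := by
    intro t ht
    refine Subgroup.mem_subgroupOf.1 (hP' (z * t * z⁻¹) ?_)
    rw [← hz]
    exact Subgroup.smul_mem_pointwise_smul t (MulAut.conj z) _ (hQ' ht)
  obtain ⟨n, hn, hfus⟩ := torus_fusion hK (x := ((z * h * z⁻¹ : (TwF4.tw F (2 ^ m))) : GL T.D.Idx F)) (SetLike.coe_mem _)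
  obtain ⟨φ, -, hker⟩ := TwF4.weyl_hom (F := F) hK
  have step : ∀ t ∈ Q, n * ((z * t * z⁻¹ : (TwF4.tw F (2 ^ m))) : GL T.D.Idx F) * n⁻¹ =
      ((z * (h * t * h⁻¹) * z⁻¹ : (TwF4.tw F (2 ^ m))) : GL T.D.Idx F) := by
    intro t ht
    have e : ((z * h * z⁻¹ : (TwF4.tw F (2 ^ m))) : GL T.D.Idx F) * ((z * t * z⁻¹ : (TwF4.tw F (2 ^ m))) : GL T.D.Idx F) *
        ((z * h * z⁻¹ : (TwF4.tw F (2 ^ m))) : GL T.D.Idx F)⁻¹ = ((z * (h * t * h⁻¹) * z⁻¹ : (TwF4.tw F (2 ^ m))) : GL T.D.Idx F) := by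
      simp only [Subgroup.coe_mul, Subgroup.coe_inv]
      group
    rw [hfus _ (hzQ t ht) (by rw [e]; exact hzQ _ (hh t ht)), e]
  have hpow : ∀ (k : ℕ), ∀ t ∈ Q, n ^ k * ((z * t * z⁻¹ : (TwF4.tw F (2 ^ m))) : GL T.D.Idx F) * (n ^ k)⁻¹ =
      ((z * (h ^ k * t * (h ^ k)⁻¹) * z⁻¹ : (TwF4.tw F (2 ^ m))) : GL T.D.Idx F) := by
    intro k
    induction k with
    | zero => intro t _; simp
    | succ k ih =>
      intro t ht
      rw [pow_succ, pow_succ h,
        show n ^ k * n * ((z * t * z⁻¹ : (TwF4.tw F (2 ^ m))) : GL T.D.Idx F) * (n ^ k * n)⁻¹ =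
          n ^ k * (n * ((z * t * z⁻¹ : (TwF4.tw F (2 ^ m))) : GL T.D.Idx F) * n⁻¹) * (n ^ k)⁻¹ by group,
        step t ht, ih _ (hh t ht)]
      simp only [Subgroup.coe_mul, Subgroup.coe_inv]
      group
  have h16 : (⟨n, hn⟩ : ↥(n1 F (2 ^ m))) ^ 16 ∈ φ.ker := by
    rw [MonoidHom.mem_ker, map_pow,
      show (16 : ℕ) = Nat.card (DihedralGroup 8) by rw [DihedralGroup.nat_card],
      pow_card_eq_one']
  rw [hker] at h16
  intro t ht
  have h2 : n ^ 16 * ((z * t * z⁻¹ : (TwF4.tw F (2 ^ m))) : GL T.D.Idx F) * (n ^ 16)⁻¹ =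
      ((z * t * z⁻¹ : (TwF4.tw F (2 ^ m))) : GL T.D.Idx F) := by
    rw [t1_comm (s := n ^ 16) h16 (hzQ t ht), mul_inv_cancel_right]
  rw [hpow 16 t ht] at h2
  exact mul_left_cancel (mul_right_cancel (Subtype.ext h2))

/-- seven points: a 7-cycle and a map squaring it -/
theorem exists_square_conj :
    ∃ x g : alternatingGroup (Fin 7), orderOf x = 7 ∧ g * x * g⁻¹ = x ^ 2 := by
  refine ⟨⟨finRotate 7, Equiv.Perm.mem_alternatingGroup.2 (by decide +kernel)⟩,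
    ⟨⟨fun i => 2 * i, fun i => 4 * i, fun i => by revert i; decide, fun i => by revert i; decide⟩,
      Equiv.Perm.mem_alternatingGroup.2 (by decide +kernel)⟩,
    orderOf_eq_prime (p := 7) (hp := ⟨by norm_num⟩) (Subtype.ext (by decide +kernel)) ?_,
    Subtype.ext (by decide +kernel)⟩
  intro h
  have := congrArg (fun p : alternatingGroup (Fin 7) => (p : Equiv.Perm (Fin 7)) 0) h
  revert this
  decide +kernel

/-- `A_n`, `n ≥ 7`, has an element of order 7 conjugate to its square -/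
theorem exists_square_conj_le {r : ℕ} (hr : 7 ≤ r) :
    ∃ x g : alternatingGroup (Fin r), orderOf x = 7 ∧ g * x * g⁻¹ = x ^ 2 := by
  obtain ⟨x, g, hx, hg⟩ := exists_square_conj
  let ψ : Equiv.Perm (Fin 7) →* Equiv.Perm (Fin r) :=
    Equiv.Perm.extendDomainHom (Fin.castLEquiv hr)
  have hmem : ∀ y : alternatingGroup (Fin 7), ψ y ∈ alternatingGroup (Fin r) := fun y => by
    rw [Equiv.Perm.mem_alternatingGroup]
    exact (Equiv.Perm.sign_extendDomain _ _).trans (Equiv.Perm.mem_alternatingGroup.1 y.2)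
  let f : alternatingGroup (Fin 7) →* alternatingGroup (Fin r) :=
    (ψ.comp (Subgroup.subtype _)).codRestrict _ hmem
  have hf : Function.Injective f := fun a b h =>
    Subtype.ext (Equiv.Perm.extendDomainHom_injective _ (congrArg Subtype.val h))
  exact ⟨f x, f g, by rw [orderOf_injective f hf, hx], by rw [← map_inv, ← map_mul, ← map_mul, hg, map_pow]⟩

theorem alt_section_bound (hK : Fintype.card F = 2 ^ (2 * m + 1))
    {r : ℕ} (H : Subgroup ↥(TwF4.tw F (2 ^ m))) (f : H →* alternatingGroup (Fin r))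
    (hf : Function.Surjective f) : r ≤ 6 := by
  by_contra hr
  obtain ⟨x, g, hx, hgx⟩ := exists_square_conj_le (Nat.lt_of_not_le hr)
  haveI : Fact (Nat.Prime 7) := ⟨by norm_num⟩
  set X := Subgroup.zpowers x with hX
  set M := X.comap f with hM
  have hnorm : ∀ k : alternatingGroup (Fin r), k * x * k⁻¹ ∈ X → ∀ y ∈ X, k * y * k⁻¹ ∈ X := by
    intro k hk y hy
    obtain ⟨j, rfl⟩ := Subgroup.mem_zpowers_iff.1 hy
    rw [← conj_zpow]
    exact zpow_mem hk j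
  obtain ⟨g0, rfl⟩ := hf g
  have hg0 : ∀ y ∈ M, g0 * y * g0⁻¹ ∈ M := by
    intro y hy
    show f (g0 * y * g0⁻¹) ∈ X
    rw [map_mul, map_mul, map_inv]
    exact hnorm _ (by rw [hgx]; exact pow_mem (Subgroup.mem_zpowers x) 2) _ hy
  let fM : M →* X := f.subgroupComap X
  have hfM : Function.Surjective fM := f.subgroupComap_surjective_of_surjective X hf
  obtain ⟨Q⟩ : Nonempty (Sylow 7 M) := inferInstance
  have hXp : IsPGroup 7 X := IsPGroup.of_card (n := 1) (by rw [Nat.card_zpowers, hx, pow_one])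
  have hQX : ((Q : Subgroup M).map fM) = ⊤ := by
    have h1 := (Q.mapSurjective hfM).3 (hXp.to_subgroup ⊤) le_top
    simpa using h1.symm
  let θ : M →* M :=
    { toFun := fun y => ⟨g0 * y * g0⁻¹, hg0 y y.2⟩
      map_one' := Subtype.ext (by simp)
      map_mul' := fun a b => Subtype.ext (by simp [mul_assoc]) }
  have hθ : Function.Injective θ := fun a b h => Subtype.ext (by
    simpa [θ] using congrArg Subtype.val h)
  let Q2 : Sylow 7 M := Sylow.ofCard ((Q : Subgroup M).map θ) (by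
    rw [Subgroup.card_map_of_injective hθ]; exact Q.card_eq_multiplicity)
  obtain ⟨k, hk⟩ := MulAction.exists_smul_eq M Q2 Q
  set h0 : H := (k : H) * g0 with hh0
  set QH : Subgroup H := (Q : Subgroup M).map M.subtype with hQH
  have hh : ∀ t ∈ QH, h0 * t * h0⁻¹ ∈ QH := by
    rintro _ ⟨y, hy, rfl⟩
    refine ⟨k * θ y * k⁻¹, ?_, ?_⟩
    · rw [SetLike.mem_coe, ← hk]
      exact Subgroup.smul_mem_pointwise_smul (θ y) (MulAut.conj k) _ ⟨y, hy, rfl⟩
    · simp [θ, hh0, mul_assoc]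
  have hcent := pow_sixteen_central hK (Q := QH.map H.subtype) ((Q.2.map _).map _)
    (h := (h0 : ↥(TwF4.tw F (2 ^ m)))) (by
      rintro _ ⟨t, ht, rfl⟩
      exact ⟨_, hh t ht, by simp⟩)
  obtain ⟨y, hy, hyx⟩ : (⟨x, Subgroup.mem_zpowers x⟩ : X) ∈ (Q : Subgroup M).map fM := by
    rw [hQX]; trivial
  have hyx' : f (y : H) = x := congrArg Subtype.val hyx
  have h16 : h0 ^ 16 * (y : H) * (h0 ^ 16)⁻¹ = (y : H) := by
    have := hcent _ ⟨(y : H), ⟨y, hy, rfl⟩, rfl⟩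
    exact Subtype.ext (by simpa using this)
  have hfh : f h0 * x * (f h0)⁻¹ = x ^ 2 := by
    obtain ⟨j, hj⟩ := Subgroup.mem_zpowers_iff.1 k.2
    rw [hh0, map_mul, mul_inv_rev, ← hj, show x ^ j * f g0 * x * ((f g0)⁻¹ * (x ^ j)⁻¹) =
      x ^ j * (f g0 * x * (f g0)⁻¹) * (x ^ j)⁻¹ by group, hgx]
    group
  have hiter : ∀ i : ℕ, (f h0) ^ i * x * ((f h0) ^ i)⁻¹ = x ^ 2 ^ i := by
    intro i
    induction i with
    | zero => simp
    | succ i ih =>
      rw [pow_succ', show f h0 * f h0 ^ i * x * (f h0 * f h0 ^ i)⁻¹ =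
        f h0 * (f h0 ^ i * x * (f h0 ^ i)⁻¹) * (f h0)⁻¹ by group, ih, ← conj_pow, hfh, ← pow_mul,
        ← pow_succ']
  have h1 := congrArg f h16
  rw [map_mul, map_mul, map_inv, map_pow, hyx', hiter 16] at h1
  nth_rewrite 2 [← pow_one x] at h1
  rw [pow_eq_pow_iff_modEq, hx] at h1
  exact absurd h1 (by decide)

end Cfsg.Agent.TwistedF4Alt
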